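import Mathlib

/-!
# The Frobenius lemma: common definitions

`K` a field of characteristic `p`, `ρ : Representation K G V`, `x : G` of order `p` generating a Sylow
`p`-subgroup.

* `trP p ρ x`: the trace map of the group generated by `x`;
* `Aug ρ`: every class function acts as its augmentation (so `ρ` lies in the principal block).

Pieces:
* T23 (`exists_fixed`): `∃ v`, fixed by `x` and by the `p`-regular elements of `C(x)`, not in the range of
  `trP p ρ x`;
* T4 (`exists_semilinear`): a Frobenius-semilinear `f` commuting with `N(⟨x⟩)`, `f u = u` for some `u` fixed by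
  `x` and not in the range of `trP`;
* T5 (`exists_equivariant`): a Frobenius-semilinear `d ≠ 0` commuting with `G`;
* T1 (`charpoly_map`): the characteristic polynomials of `ρ g` are fixed by Frobenius.
-/

set_option autoImplicit false

namespace Cfsg.Agent.H760.Frob

variable {K : Type*} [Field K] {G : Type*} [Group G] {V : Type*} [AddCommGroup V] [Module K V]

/-- The trace map of the group generated by `x` (an element of order `p`). -/
def trP (p : ℕ) (ρ : Representation K G V) (x : G) : Module.End K V :=
  ∑ i ∈ Finset.range p, ρ (x ^ i)

/-- Every class function acts as its augmentation. -/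
def Aug [Fintype G] (ρ : Representation K G V) : Prop :=
  ∀ a : G → K, (∀ g h, a (h * g * h⁻¹) = a g) →
    ∑ g, a g • ρ g = (∑ g, a g) • (1 : Module.End K V)

theorem trP_apply (p : ℕ) (ρ : Representation K G V) (x : G) (v : V) :
    trP p ρ x v = ∑ i ∈ Finset.range p, ρ (x ^ i) v := by
  rw [trP, LinearMap.sum_apply]

end Cfsg.Agent.H760.Frob
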