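import Cfsg.Agent.H760.Frob.Defs

/-!
# Sums over free orbits of an element of order `p` are traces
-/

set_option autoImplicit false

namespace Cfsg.Agent.H760.Frob

variable {K : Type*} [Field K] {G : Type*} [Group G] {V : Type*} [AddCommGroup V] [Module K V]

/-- `S` a finite set stable under `σ`, `σ ^ p = 1`, without fixed points, and `Φ (σ ω) = x Φ(ω)`: the sum of
`Φ` over `S` is in the range of the trace of `⟨x⟩`. -/
theorem sum_mem_range_trP {p : ℕ} [Fact p.Prime] (ρ : Representation K G V) (x : G) {Ω : Type*}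
    (σ : Ω → Ω) (S : Finset Ω) (hS : ∀ ω ∈ S, σ ω ∈ S) (hper : ∀ ω ∈ S, σ^[p] ω = ω)
    (hfix : ∀ ω ∈ S, σ ω ≠ ω) (Φ : Ω → V) (hΦ : ∀ ω ∈ S, Φ (σ ω) = ρ x (Φ ω)) :
    ∑ ω ∈ S, Φ ω ∈ LinearMap.range (trP p ρ x) := by
  classical
  have hp : p.Prime := Fact.out
  induction S using Finset.strongInduction with
  | H S ih =>
    rcases S.eq_empty_or_nonempty with h0 | ⟨ω, hω⟩
    · rw [h0, Finset.sum_empty]
      exact Submodule.zero_mem _
    · have hmemi : ∀ i, σ^[i] ω ∈ S := by
        intro i
        induction i with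
        | zero => exact hω
        | succ n ih' =>
          rw [Function.iterate_succ_apply']
          exact hS _ ih'
      have hmin : Function.minimalPeriod σ ω = p :=
        Function.minimalPeriod_eq_prime (hper ω hω) (hfix ω hω)
      have hinj : Set.InjOn (fun i => σ^[i] ω) (Finset.range p : Set ℕ) := by
        have := Function.iterate_injOn_Iio_minimalPeriod (f := σ) (x := ω)
        rw [hmin] at this
        intro i hi k hk h
        exact this (by simpa using hi) (by simpa using hk) h
      set O : Finset Ω := (Finset.range p).image (fun i => σ^[i] ω) with hO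
      have hOS : O ⊆ S := by
        intro z hz
        obtain ⟨i, _, rfl⟩ := Finset.mem_image.1 hz
        exact hmemi i
      have hωO : ω ∈ O := Finset.mem_image.2 ⟨0, Finset.mem_range.2 hp.pos, rfl⟩
      have hallO : ∀ i, σ^[i] ω ∈ O := by
        intro i
        refine Finset.mem_image.2 ⟨i % p, Finset.mem_range.2 (Nat.mod_lt _ hp.pos), ?_⟩
        exact Function.IsPeriodicPt.iterate_mod_apply (hper ω hω) i
      have hΦi : ∀ i, Φ (σ^[i] ω) = ρ (x ^ i) (Φ ω) := by
        intro i
        induction i with
        | zero => simp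
        | succ n ih' =>
          rw [Function.iterate_succ_apply', hΦ _ (hmemi n), ih', pow_succ', map_mul, Module.End.mul_apply]
      have hsumO : ∑ z ∈ O, Φ z = trP p ρ x (Φ ω) := by
        rw [hO, Finset.sum_image hinj, trP_apply]
        exact Finset.sum_congr rfl fun i _ => hΦi i
      have hlt : S \ O ⊂ S := by
        refine Finset.ssubset_iff_subset_ne.2 ⟨Finset.sdiff_subset, fun h => ?_⟩
        have := h ▸ hω
        exact (Finset.mem_sdiff.1 this).2 hωO
      have h1 := ih (S \ O) hlt (fun z hz => ?_) (fun z hz => hper z (Finset.mem_sdiff.1 hz).1)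
        (fun z hz => hfix z (Finset.mem_sdiff.1 hz).1) (fun z hz => hΦ z (Finset.mem_sdiff.1 hz).1)
      · rw [← Finset.sum_sdiff hOS, hsumO]
        exact Submodule.add_mem _ h1 ⟨_, rfl⟩
      · obtain ⟨hz1, hz2⟩ := Finset.mem_sdiff.1 hz
        refine Finset.mem_sdiff.2 ⟨hS _ hz1, fun hc => hz2 ?_⟩
        obtain ⟨i, _, hi⟩ := Finset.mem_image.1 hc
        have h2 : σ^[p - 1] (σ z) = z := by
          rw [← Function.iterate_succ_apply, Nat.succ_eq_add_one, Nat.sub_add_cancel hp.one_le]
          exact hper z hz1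
        rw [← h2, ← hi, ← Function.iterate_add_apply]
        exact hallO _

/-- The trace map in characteristic `p` is `(x - 1) ^ (p - 1)`. -/
theorem trP_eq_pow {p : ℕ} [Fact p.Prime] [CharP K p] (ρ : Representation K G V) (x : G) :
    trP p ρ x = (ρ x - 1) ^ (p - 1) := by
  have hp : p.Prime := Fact.out
  -- in the polynomial ring
  have h1 : (∑ i ∈ Finset.range p, (Polynomial.X : Polynomial K) ^ i) = (Polynomial.X - 1) ^ (p - 1) := by
    have h2 : (∑ i ∈ Finset.range p, (Polynomial.X : Polynomial K) ^ i) * (Polynomial.X - 1) =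
        (Polynomial.X - 1) ^ (p - 1) * (Polynomial.X - 1) := by
      rw [geom_sum_mul, ← pow_succ, Nat.sub_add_cancel hp.one_le]
      have := sub_pow_char (R := Polynomial K) (p := p) Polynomial.X 1
      rw [this, one_pow]
    exact mul_right_cancel₀ (Polynomial.X_sub_C_ne_zero (1 : K)) (by simpa using h2)
  have h3 := congrArg (Polynomial.aeval (ρ x)) h1
  rw [map_sum, map_pow, map_sub, Polynomial.aeval_X, map_one] at h3
  rw [← h3, trP]
  refine Finset.sum_congr rfl fun i _ => ?_
  rw [map_pow, map_pow, Polynomial.aeval_X]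

end Cfsg.Agent.H760.Frob
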