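import Mathlib

/-!
# Inverse polynomials modulo a power of `X`
-/

set_option autoImplicit false

namespace Cfsg.Agent.H760.Frob

open Polynomial

theorem poly_step {F : Type*} [Field F] (g₁ q₁ r C' : F[X]) (n : ℕ)
    (hC' : ∀ s : F[X], C'.comp s = C')
    (hr : (X * q₁).comp (X * g₁) - X = X ^ (n + 1) * r) :
    (X * (q₁ - C' * X ^ n)).comp (X * g₁) - X = X ^ (n + 1) * (r - C' * g₁ ^ (n + 1)) := by
  have h2 : (X * (q₁ - C' * X ^ n) : F[X]) = X * q₁ - C' * X ^ (n + 1) := by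
    rw [mul_sub, pow_succ', ← mul_assoc, ← mul_assoc, mul_comm X C']
  rw [h2, sub_comp, mul_comp C', hC', X_pow_comp, mul_pow, mul_sub, ← hr, sub_right_comm]
  congr 1
  rw [← mul_assoc, ← mul_assoc, mul_comm C']

/-- If `g = X g₁` with `g₁(0) ≠ 0`, then `X` is a polynomial `X q₁` in `g` modulo `X ^ n`. -/
theorem exists_poly_inv {F : Type*} [Field F] (g₁ : F[X]) (h0 : g₁.coeff 0 ≠ 0) (n : ℕ) :
    ∃ q₁ : F[X], (X : F[X]) ^ (n + 1) ∣ (X * q₁).comp (X * g₁) - X := by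
  induction n with
  | zero =>
    refine ⟨0, ?_⟩
    rw [mul_zero, zero_comp, zero_sub, zero_add, pow_one]
    exact (dvd_neg).2 (dvd_refl _)
  | succ n ih =>
    obtain ⟨q₁, r, hr⟩ := ih
    obtain ⟨c, hc⟩ : ∃ c : F, r.coeff 0 = c * (g₁.coeff 0) ^ (n + 1) :=
      ⟨r.coeff 0 / (g₁.coeff 0) ^ (n + 1), (div_mul_cancel₀ _ (pow_ne_zero _ h0)).symm⟩
    refine ⟨q₁ - C c * X ^ n, ?_⟩
    rw [poly_step g₁ q₁ r (C c) n (fun s => C_comp) hr, pow_succ X (n + 1)]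
    refine mul_dvd_mul_left _ (X_dvd_iff.2 ?_)
    rw [coeff_sub, coeff_C_mul, coeff_zero_eq_eval_zero (g₁ ^ (n + 1)), eval_pow, ← coeff_zero_eq_eval_zero,
      hc, sub_self]

end Cfsg.Agent.H760.Frob
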