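import Cfsg.Agent.H760.Frob.Orbit
import Cfsg.Agent.H760.Frob.Lin
import Cfsg.Agent.H760.Frob.Poly

/-!
# The operator `Σ b⁻¹ x^b`
-/

set_option autoImplicit false

namespace Cfsg.Agent.H760.Frob

open Polynomial

variable {K : Type*} [Field K] {G : Type*} [Group G] {V : Type*} [AddCommGroup V] [Module K V]

/-- The embedding of the prime field. -/
noncomputable abbrev io (K : Type*) [Field K] (p : ℕ) [CharP K p] : ZMod p →+* K :=
  ZMod.castHom (dvd_refl p) K

variable {p : ℕ} [Fact p.Prime] [CharP K p]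

/-- `Σ b⁻¹ x^b`, the sum over the units modulo `p`. -/
noncomputable def XX (p : ℕ) [Fact p.Prime] [CharP K p] (ρ : Representation K G V) (x : G) :
    Module.End K V :=
  ∑ b : (ZMod p)ˣ, io K p ((b⁻¹ : (ZMod p)ˣ) : ZMod p) • ρ (x ^ (b : ZMod p).val)

theorem sum_inv_units (hp2 : p ≠ 2) : ∑ b : (ZMod p)ˣ, ((b⁻¹ : (ZMod p)ˣ) : ZMod p) = 0 := by
  have hp : p.Prime := Fact.out
  have h1 : ∑ b : (ZMod p)ˣ, ((b⁻¹ : (ZMod p)ˣ) : ZMod p) = ∑ b : (ZMod p)ˣ, (b : ZMod p) ^ 1 := by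
    refine Fintype.sum_equiv (Equiv.inv _) _ _ fun b => ?_
    rw [pow_one, Equiv.inv_apply]
  rw [h1, FiniteField.sum_pow_units, ZMod.card, if_neg]
  intro h
  have := Nat.le_of_dvd one_pos h
  have h2 := hp.two_le
  omega

theorem sum_inv_mul_units : ∑ b : (ZMod p)ˣ, ((b⁻¹ : (ZMod p)ˣ) : ZMod p) * (b : ZMod p) = -1 := by
  have h1 : ∀ b : (ZMod p)ˣ, ((b⁻¹ : (ZMod p)ˣ) : ZMod p) * (b : ZMod p) = (b : ZMod p) ^ 0 := by
    intro b
    rw [pow_zero, Units.inv_mul]
  rw [Finset.sum_congr rfl fun b _ => h1 b, FiniteField.sum_pow_units, if_pos (dvd_zero _)]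

/-- The polynomial. -/
noncomputable def gp (p : ℕ) [Fact p.Prime] : (ZMod p)[X] :=
  ∑ b : (ZMod p)ˣ, C ((b⁻¹ : (ZMod p)ˣ) : ZMod p) * (1 + X) ^ (b : ZMod p).val

theorem gp_coeff_zero (hp2 : p ≠ 2) : (gp p).coeff 0 = 0 := by
  rw [gp, finsetSum_coeff, ← sum_inv_units hp2]
  refine Finset.sum_congr rfl fun b _ => ?_
  rw [coeff_C_mul, coeff_one_add_X_pow, Nat.choose_zero_right, Nat.cast_one, mul_one]

theorem gp_coeff_one : (gp p).coeff 1 = -1 := by
  rw [gp, finsetSum_coeff, ← sum_inv_mul_units]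
  refine Finset.sum_congr rfl fun b _ => ?_
  rw [coeff_C_mul, coeff_one_add_X_pow, Nat.choose_one_right, ZMod.natCast_val, ZMod.cast_id]

theorem XX_eq_aeval (ρ : Representation K G V) (x : G) :
    XX p ρ x = aeval (ρ x - 1) ((gp p).map (io K p)) := by
  rw [XX, gp, Polynomial.map_sum, map_sum]
  refine Finset.sum_congr rfl fun b _ => ?_
  rw [Polynomial.map_mul, Polynomial.map_C, Polynomial.map_pow, Polynomial.map_add, Polynomial.map_one,
    Polynomial.map_X, map_mul, aeval_C, map_pow (aeval (ρ x - 1)), map_add, map_one, aeval_X, add_sub_cancel,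
    Algebra.smul_def, map_pow ρ]

theorem pow_sub_one_eq_zero (ρ : Representation K G V) {x : G} (hx : x ^ p = 1) :
    (ρ x - 1) ^ p = 0 := by
  have h1 : (X - 1 : K[X]) ^ p = X ^ p - 1 := by
    have := sub_pow_char (R := Polynomial K) (p := p) Polynomial.X 1
    rw [this, one_pow]
  have h3 := congrArg (Polynomial.aeval (ρ x)) h1
  rw [map_pow, map_sub, map_sub, map_pow, Polynomial.aeval_X, map_one, ← map_pow, hx, map_one,
    sub_self] at h3
  exact h3

/-- `X = T g₁(T)` and `T = X q₁(X)`, `T = ρ x - 1`. -/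
theorem exists_XX (hp2 : p ≠ 2) (ρ : Representation K G V) {x : G} (hx : x ^ p = 1) :
    ∃ g₁ q₁ : (ZMod p)[X], XX p ρ x = (ρ x - 1) * aeval (ρ x - 1) (g₁.map (io K p)) ∧
      ρ x - 1 = XX p ρ x * aeval (XX p ρ x) (q₁.map (io K p)) := by
  have hp : p.Prime := Fact.out
  obtain ⟨g₁, hg₁⟩ := X_dvd_iff.2 (gp_coeff_zero (p := p) hp2)
  have h0 : g₁.coeff 0 ≠ 0 := by
    have : (gp p).coeff 1 = g₁.coeff 0 := by rw [hg₁, coeff_X_mul]
    rw [← this, gp_coeff_one]
    exact neg_ne_zero.2 one_ne_zero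
  obtain ⟨q₁, r, hr⟩ := exists_poly_inv g₁ h0 (p - 1)
  rw [Nat.sub_add_cancel hp.one_le] at hr
  refine ⟨g₁, q₁, ?_, ?_⟩
  · rw [XX_eq_aeval, hg₁, Polynomial.map_mul, Polynomial.map_X, map_mul, aeval_X]
  · have h1 : aeval (ρ x - 1) ((((X * q₁).comp (X * g₁) - X : (ZMod p)[X])).map (io K p)) = 0 := by
      rw [hr, Polynomial.map_mul, Polynomial.map_pow, Polynomial.map_X, map_mul, map_pow, aeval_X,
        pow_sub_one_eq_zero ρ hx, zero_mul]
    rw [← hg₁, Polynomial.map_sub, Polynomial.map_comp, Polynomial.map_X, map_sub, aeval_X, aeval_comp,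
      ← XX_eq_aeval, Polynomial.map_mul, Polynomial.map_X, map_mul, aeval_X] at h1
    exact (sub_eq_zero.1 h1).symm

theorem aeval_map_apply_comm {f : V →ₛₗ[frobenius K p] V} {Y : Module.End K V}
    (hf : ∀ s, f (Y s) = Y (f s)) (q : (ZMod p)[X]) (s : V) :
    f (aeval Y (q.map (io K p)) s) = aeval Y (q.map (io K p)) (f s) := by
  have h1 : ∀ i s, f ((Y ^ i) s) = (Y ^ i) (f s) := by
    intro i
    induction i with
    | zero => intro s; simp
    | succ n ih => intro s; rw [pow_succ, Module.End.mul_apply, ih, hf, Module.End.mul_apply]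
  rw [aeval_eq_sum_range, LinearMap.sum_apply, LinearMap.sum_apply, map_sum]
  refine Finset.sum_congr rfl fun i _ => ?_
  rw [LinearMap.smul_apply, LinearMap.smul_apply, LinearMap.map_smulₛₗ, h1, coeff_map, frobenius_def,
    ← map_pow, ZMod.pow_card]

/-- `h X h⁻¹ = c X` if `h x h⁻¹ = x ^ c`. -/
theorem rho_mul_XX (ρ : Representation K G V) {x h : G} (hx : x ^ p = 1) (c : (ZMod p)ˣ)
    (hc : h * x * h⁻¹ = x ^ (c : ZMod p).val) :
    ρ h * XX p ρ x = io K p (c : ZMod p) • (XX p ρ x * ρ h) := by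
  have h1 : ∀ n : ℕ, h * x ^ n = x ^ ((c : ZMod p).val * n) * h := by
    intro n
    have : h * x ^ n * h⁻¹ = x ^ ((c : ZMod p).val * n) := by
      rw [pow_mul, ← hc, conj_pow]
    rw [← this]
    group
  have h2 : ∀ m : ℕ, x ^ (m % p) = x ^ m := fun m => by
    conv_rhs => rw [← Nat.mod_add_div m p, pow_add, pow_mul, hx, one_pow, mul_one]
  rw [XX, Finset.mul_sum, Finset.sum_mul, Finset.smul_sum]
  refine Fintype.sum_equiv (Equiv.mulLeft c) _ _ fun b => ?_
  rw [mul_smul_comm, ← map_mul, h1, map_mul, smul_mul_assoc, smul_smul, Equiv.coe_mulLeft, mul_inv,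
    Units.val_mul c⁻¹, Units.val_mul c, ZMod.val_mul, h2, map_mul, ← mul_assoc, ← map_mul (io K p), Units.mul_inv,
    map_one, one_mul]

end Cfsg.Agent.H760.Frob
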